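import Groth.Agent.L27.ProEt.Basic

/-! Disjoint open decompositions of objects of the small pro-etale site. -/

set_option autoImplicit false
set_option linter.style.haveILetI false
universe u v

open CategoryTheory CategoryTheory.Limits AlgebraicGeometry Opposite MorphismProperty

namespace Groth.L27.ProEt

theorem exists_glue {Y T : Scheme.{u}} {J : Type v} (W : J → Y.Opens)
    (hd : Pairwise fun i j => Disjoint (W i : Set Y) (W j : Set Y))
    (hc : (⋃ j, (W j : Set Y)) = Set.univ) (f : ∀ j, (W j).toScheme ⟶ T) :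
    ∃ s : Y ⟶ T, ∀ j, (W j).ι ≫ s = f j := by
  let 𝒰 : Y.OpenCover :=
    { I₀ := J
      X := fun j => W j
      f := fun j => (W j).ι
      mem₀ := (Scheme.presieve₀_mem_precoverage_iff _).mpr ⟨fun x => by
        obtain ⟨j, hj⟩ := Set.mem_iUnion.mp (hc.ge (Set.mem_univ x))
        exact ⟨j, by simpa using hj⟩, fun j => inferInstance⟩ }
  refine ⟨𝒰.glueMorphisms f fun i j => ?_, fun j => 𝒰.ι_glueMorphisms _ _ j⟩
  by_cases hij : i = j
  · subst hij
    rw [(cancel_mono (𝒰.f i)).mp pullback.condition]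
  · haveI : IsEmpty ↥(pullback (𝒰.f i) (𝒰.f j)) := ⟨fun z => by
      have h1 := congrArg (fun g : pullback (𝒰.f i) (𝒰.f j) ⟶ Y => g z)
        (pullback.condition (f := 𝒰.f i) (g := 𝒰.f j))
      simp only [Scheme.Hom.comp_apply] at h1
      exact Set.disjoint_left.mp (hd hij) ((pullback.fst (𝒰.f i) (𝒰.f j) z).2)
        (by rw [show ((pullback.fst (𝒰.f i) (𝒰.f j) z).1 : Y) = (pullback.snd (𝒰.f i) (𝒰.f j) z).1 from h1]; exact (pullback.snd (𝒰.f i) (𝒰.f j) z).2)⟩
    exact (isInitialOfIsEmpty).hom_ext _ _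

theorem hom_ext_of_iUnion {Y T : Scheme.{u}} {J : Type v} (W : J → Y.Opens)
    (hc : (⋃ j, (W j : Set Y)) = Set.univ) {f g : Y ⟶ T}
    (h : ∀ j, (W j).ι ≫ f = (W j).ι ≫ g) : f = g :=
  Scheme.hom_ext_of_forall f g fun x => by
    obtain ⟨j, hj⟩ := Set.mem_iUnion.mp (hc.ge (Set.mem_univ x))
    exact ⟨W j, hj, h j⟩

variable {X : Scheme.{u}}

/-- An open subscheme of an object of the site. -/
noncomputable abbrev mkOpen (U : X.ProEt) (W : U.left.Opens) : X.ProEt :=
  Scheme.ProEt.mk (W.ι ≫ U.hom)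

/-- Its inclusion. -/
noncomputable abbrev mkOpenHom (U : X.ProEt) (W : U.left.Opens) : mkOpen U W ⟶ U :=
  MorphismProperty.Over.homMk W.ι

instance (U : X.ProEt) (W : U.left.Opens) : IsOpenImmersion (mkOpenHom U W).left :=
  inferInstanceAs (IsOpenImmersion W.ι)

theorem ofArrows_mkOpenHom_mem {U : X.ProEt} {J : Type u} (W : J → U.left.Opens)
    (hc : (⋃ j, (W j : Set U.left)) = Set.univ) :
    Sieve.ofArrows _ (fun j => mkOpenHom U (W j)) ∈ Scheme.ProEt.topology X U := by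
  refine generate_ofArrows_mem_of_isOpenImmersion _ _ fun x => ?_
  obtain ⟨j, hj⟩ := Set.mem_iUnion.mp (hc.ge (Set.mem_univ x))
  exact ⟨j, ⟨x, hj⟩, rfl⟩

theorem exists_glue_proEt {U T : X.ProEt} {J : Type v} (W : J → U.left.Opens)
    (hd : Pairwise fun i j => Disjoint (W i : Set U.left) (W j : Set U.left))
    (hc : (⋃ j, (W j : Set U.left)) = Set.univ) (f : ∀ j, mkOpen U (W j) ⟶ T) :
    ∃ s : U ⟶ T, ∀ j, mkOpenHom U (W j) ≫ s = f j := by
  obtain ⟨s, hs⟩ := exists_glue W hd hc fun j => (f j).left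
  refine ⟨MorphismProperty.Over.homMk s (hom_ext_of_iUnion W hc fun j => ?_) trivial, fun j => ?_⟩
  · rw [← Category.assoc, hs j]
    exact MorphismProperty.Over.w (f j)
  · exact MorphismProperty.Over.Hom.ext (hs j)

end Groth.L27.ProEt
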