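import Groth.Agent.L27.ProEt.Basic
import Groth.Prelude.Def_ProEtS
import Mathlib.AlgebraicGeometry.Morphisms.UniversallyOpen

/-! Continuity of the standard functors between small etale and pro-etale sites. -/

set_option autoImplicit false
set_option linter.style.haveILetI false
universe u v

open CategoryTheory CategoryTheory.Limits AlgebraicGeometry Opposite MorphismProperty

namespace Groth.L27.ProEt

variable {X Y : Scheme.{u}}

set_option backward.isDefEq.respectTransparency.types false in
theorem preservesFiniteLimits_eps (X : Scheme.{u}) : PreservesFiniteLimits (ProEtS.eps X) := by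
  have h : PreservesFiniteLimits (ProEtS.eps X ⋙ Scheme.ProEt.forget X) := by
    let e : ProEtS.eps X ⋙ Scheme.ProEt.forget X ≅ Scheme.Etale.forget X :=
      NatIso.ofComponents (fun _ => Iso.refl _) fun f =>
        (Category.comp_id _).trans (Category.id_comp _).symm
    exact preservesFiniteLimits_of_natIso e.symm
  exact preservesFiniteLimits_of_reflects_of_preserves (ProEtS.eps X) (Scheme.ProEt.forget X)

set_option backward.isDefEq.respectTransparency.types false in
theorem coverPreserving_eps (X : Scheme.{u}) :
    CoverPreserving X.smallEtaleTopology (Scheme.ProEt.topology X) (ProEtS.eps X) := by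
  constructor
  intro U S hS
  have eX : X.smallEtaleTopology =
      (X.smallPretopology (P := EtCoh.etaleMP) (Q := EtCoh.etaleMP)).toGrothendieck :=
    Scheme.smallGrothendieckTopology_eq_toGrothendieck_smallPretopology X le_rfl
  rw [eX] at hS
  replace hS := (Scheme.mem_toGrothendieck_smallPretopology U S).1 hS
  choose V g y hg het hy using hS
  refine GrothendieckTopology.superset_covering _ ?_
    (generate_ofArrows_mem_of_isOpenMap (U := (ProEtS.eps X).obj U) (fun x => (ProEtS.eps X).obj (V x))
      (fun x => (ProEtS.eps X).map (g x)) (fun x => ?_) fun x => ⟨x, y x, hy x⟩)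
  · rw [Sieve.generate_le_iff, Presieve.ofArrows_le_iff]
    exact fun x => Sieve.image_mem_functorPushforward _ _ (hg x)
  · haveI : Etale (g x).left := het x
    exact (g x).left.isOpenMap

theorem epsCont (X : Scheme.{u}) : ProEtS.EpsCont X := by
  haveI := preservesFiniteLimits_eps X
  haveI : RepresentablyFlat (ProEtS.eps X) := flat_of_preservesFiniteLimits _
  exact Functor.isContinuous_of_coverPreserving (compatiblePreservingOfFlat _ _) (coverPreserving_eps X)

set_option backward.isDefEq.respectTransparency.types false in
theorem preservesFiniteLimits_bcP (f : X ⟶ Y) : PreservesFiniteLimits (ProEtS.bcP f) := by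
  have h : PreservesFiniteLimits (ProEtS.bcP f ⋙ Scheme.ProEt.forget X) := by
    let e : ProEtS.bcP f ⋙ Scheme.ProEt.forget X ≅ Scheme.ProEt.forget Y ⋙ Over.pullback f :=
      MorphismProperty.Over.pullbackCompForgetIso (P := @WeaklyEtale) (Q := ⊤) f
    exact preservesFiniteLimits_of_natIso e.symm
  exact preservesFiniteLimits_of_reflects_of_preserves (ProEtS.bcP f) (Scheme.ProEt.forget X)

set_option backward.isDefEq.respectTransparency.types false in
theorem coverPreserving_bcP (f : X ⟶ Y) :
    CoverPreserving (Scheme.ProEt.topology Y) (Scheme.ProEt.topology X) (ProEtS.bcP f) := by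
  constructor
  intro U S hS
  rw [mem_topology_iff] at hS ⊢
  let p : ((ProEtS.bcP f).obj U).left ⟶ U.left := pullback.fst U.hom f
  refine GrothendieckTopology.superset_covering _ ?_ (Scheme.proetaleTopology.pullback_stable p hS)
  intro Z h hh
  rw [Sieve.pullback_apply, Sieve.overEquiv_iff] at hh
  obtain ⟨W, g, k, hg, hk⟩ := hh
  rw [Sieve.overEquiv_iff]
  have hk' : k.left ≫ g.left = h ≫ p := (congrArg CommaMorphism.left hk).symm
  have hW : k.left ≫ W.hom = (h ≫ ((ProEtS.bcP f).obj U).hom) ≫ f := by
    refine (congrArg (k.left ≫ ·) (MorphismProperty.Over.w g).symm).trans ?_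
    refine ((Category.assoc _ _ _).symm.trans (congrArg (· ≫ U.hom) hk')).trans ?_
    exact (Category.assoc _ _ _).trans ((congrArg (h ≫ ·) pullback.condition).trans
      (Category.assoc _ _ _).symm)
  refine ⟨(ProEtS.bcP f).obj W, (ProEtS.bcP f).map g,
    Over.homMk (pullback.lift k.left (h ≫ ((ProEtS.bcP f).obj U).hom) hW) (pullback.lift_snd _ _ _),
    Sieve.image_mem_functorPushforward _ _ hg, ?_⟩
  apply Over.OverMorphism.ext
  change h = pullback.lift k.left _ hW ≫ ((ProEtS.bcP f).map g).left
  apply pullback.hom_ext
  · refine hk'.symm.trans ?_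
    refine ((congrArg (· ≫ g.left) (pullback.lift_fst _ _ hW)).symm.trans (Category.assoc _ _ _)).trans ?_
    refine Eq.trans ?_ (Category.assoc _ _ _).symm
    exact congrArg (pullback.lift _ _ hW ≫ ·) (pullback.lift_fst _ _ _).symm
  · refine (pullback.lift_snd _ _ hW).symm.trans ?_
    refine Eq.trans ?_ (Category.assoc _ _ _).symm
    exact congrArg (pullback.lift _ _ hW ≫ ·) (pullback.lift_snd _ _ _).symm

theorem pCont (f : X ⟶ Y) : ProEtS.PCont f := by
  haveI := preservesFiniteLimits_bcP f
  haveI : RepresentablyFlat (ProEtS.bcP f) := flat_of_preservesFiniteLimits _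
  exact Functor.isContinuous_of_coverPreserving (compatiblePreservingOfFlat _ _) (coverPreserving_bcP f)

end Groth.L27.ProEt
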