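import Groth.Agent.L27.ProEt.Glue
import Groth.Agent.L20.WeaklyEtale
import Groth.Agent.L27.OlivierBasic
import Groth.Agent.S0426
import Mathlib.FieldTheory.IsSepClosed

/-! Lifting geometric points along coverings. -/

set_option autoImplicit false
set_option linter.style.haveILetI false
universe u v

open CategoryTheory CategoryTheory.Limits AlgebraicGeometry Opposite MorphismProperty

namespace Groth.L27.ProEt

set_option backward.isDefEq.respectTransparency.types false in
theorem exists_section_of_isSepClosed {k : Type u} [Field k] [IsSepClosed k] {P : Scheme.{u}}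
    (f : P ⟶ Spec (CommRingCat.of k)) [WeaklyEtale f] (p : P) :
    ∃ s : Spec (CommRingCat.of k) ⟶ P, s ≫ f = 𝟙 _ := by
  obtain ⟨O, hO, hpO, -⟩ := exists_isAffineOpen_mem_and_subset
    (U := (⊤ : P.Opens)) (TopologicalSpace.Opens.mem_top p)
  let h : Spec Γ(P, O) ⟶ Spec (CommRingCat.of k) := hO.fromSpec ≫ f
  let φ : CommRingCat.of k ⟶ Γ(P, O) := Spec.preimage h
  haveI : WeaklyEtale (Spec.map φ) := by
    rw [Spec.map_preimage]
    infer_instance
  letI := φ.hom.toAlgebra
  haveI : Algebra.WeaklyEtale k Γ(P, O) := (Groth.L20.weaklyEtale_specMap_iff φ).mp inferInstance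
  let t : PrimeSpectrum Γ(P, O) := hO.primeIdealOf ⟨p, hpO⟩
  let L := Localization.AtPrime t.asIdeal
  haveI : Algebra.WeaklyEtale Γ(P, O) L := Groth.L20.weaklyEtale_isLocalization t.asIdeal.primeCompl L
  haveI : Algebra.WeaklyEtale k L := Algebra.WeaklyEtale.trans k Γ(P, O) L
  letI : Field L := (Olivier.isField_of_local k L).toField
  haveI : Algebra.IsSeparable k L := Groth.Agent.S0426.result
  let e : k ≃+* L := RingEquiv.ofBijective _ (IsSepClosed.algebraMap_bijective k L)
  let ψ : Γ(P, O) ⟶ CommRingCat.of k :=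
    CommRingCat.ofHom (e.symm.toRingHom.comp (algebraMap Γ(P, O) L))
  have hψ : φ ≫ ψ = 𝟙 _ := CommRingCat.hom_ext (RingHom.ext fun x => by
    change e.symm (algebraMap Γ(P, O) L (algebraMap k Γ(P, O) x)) = x
    rw [← IsScalarTower.algebraMap_apply]
    exact e.symm_apply_apply x)
  refine ⟨Spec.map ψ ≫ hO.fromSpec, ?_⟩
  rw [Category.assoc, show hO.fromSpec ≫ f = Spec.map φ from (Spec.map_preimage h).symm,
    ← Spec.map_comp, hψ, Spec.map_id]

variable {X : Scheme.{u}}

theorem exists_geometric_lift (U : X.ProEt) (R : Sieve U) (hR : R ∈ Scheme.ProEt.topology X U)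
    {k : Type u} [Field k] [IsSepClosed k] (ξ : Spec (CommRingCat.of k) ⟶ U.left) :
    ∃ (V : X.ProEt) (g : V ⟶ U) (ξ' : Spec (CommRingCat.of k) ⟶ V.left), R g ∧ ξ' ≫ g.left = ξ := by
  let x₀ : Spec (CommRingCat.of k) := ⟨⊥, Ideal.isPrime_bot⟩
  haveI : Subsingleton (Spec (CommRingCat.of k)) := inferInstanceAs (Subsingleton (PrimeSpectrum k))
  obtain ⟨O, hO, hxO, -⟩ := exists_isAffineOpen_mem_and_subset
    (U := (⊤ : U.left.Opens)) (TopologicalSpace.Opens.mem_top (ξ x₀))
  haveI : IsAffine (mkOpen U O).left := hO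
  let ξ₀ : Spec (CommRingCat.of k) ⟶ (mkOpen U O).left := IsOpenImmersion.lift (mkOpenHom U O).left ξ (by
    rintro _ ⟨z, rfl⟩
    rw [Subsingleton.elim z x₀]
    exact ⟨⟨_, hxO⟩, rfl⟩)
  obtain ⟨ι, -, V, g, -, hg, hcov⟩ :=
    exists_affine_refinement ((Scheme.ProEt.topology X).pullback_stable (mkOpenHom U O) hR)
  obtain ⟨i, y, hy⟩ := hcov (ξ₀ x₀)
  obtain ⟨z, -, -⟩ := Scheme.Pullback.exists_preimage_pullback (f := (g i).left) (g := ξ₀) y x₀ hy
  obtain ⟨s, hs⟩ := exists_section_of_isSepClosed (pullback.snd (g i).left ξ₀) z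
  refine ⟨V i, g i ≫ mkOpenHom U O, s ≫ pullback.fst (g i).left ξ₀, hg i, ?_⟩
  change (s ≫ pullback.fst (g i).left ξ₀) ≫ (g i).left ≫ (mkOpenHom U O).left = ξ
  refine (Category.assoc _ _ _).trans ?_
  refine (congrArg (s ≫ ·) ((Category.assoc _ _ _).symm.trans
    ((congrArg (· ≫ (mkOpenHom U O).left) pullback.condition).trans (Category.assoc _ _ _)))).trans ?_
  refine ((Category.assoc _ _ _).symm.trans (congrArg (· ≫ ξ₀ ≫ (mkOpenHom U O).left) hs)).trans ?_
  exact (Category.id_comp _).trans (IsOpenImmersion.lift_fac _ ξ _)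

end Groth.L27.ProEt
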