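import Mathlib.AlgebraicGeometry.Sites.Proetale
import Mathlib.AlgebraicGeometry.Limits
import Mathlib.CategoryTheory.Sites.PrecoverageToGrothendieck

/-! Covering sieves of the small pro-etale site. -/

set_option autoImplicit false
set_option linter.style.haveILetI false
universe u

open CategoryTheory CategoryTheory.Limits AlgebraicGeometry Opposite MorphismProperty

namespace Groth.L27.ProEt

variable {X : Scheme.{u}}

set_option backward.isDefEq.respectTransparency.types false in
theorem mem_topology_iff {U : X.ProEt} (R : Sieve U) :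
    R ∈ Scheme.ProEt.topology X U ↔
      Sieve.overEquiv _ (R.functorPushforward (Scheme.ProEt.forget X)) ∈
        Scheme.proetaleTopology U.left := by
  have h := Scheme.proetalePrecoverage_le_precoverage_weaklyEtale.{u}
  have e : Scheme.ProEt.topology X =
      (Scheme.ProEt.forget X).restrictedTopology (Scheme.proetaleTopology.over X) :=
    MorphismProperty.toGrothendieck_comap_forget_eq_restrictedTopology _ h
  rw [e]
  exact Functor.mem_restrictedTopology_iff.trans
    (GrothendieckTopology.mem_over_iff Scheme.proetaleTopology _)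

/-- An object over an object of the site, through a weakly etale map. -/
noncomputable def mkOver {U : X.ProEt} {Y : Scheme.{u}} (f : Y ⟶ U.left) [WeaklyEtale f] : X.ProEt :=
  Scheme.ProEt.mk (f ≫ U.hom)

/-- Its structure map. -/
noncomputable def mkOverMap {U : X.ProEt} {Y : Scheme.{u}} (f : Y ⟶ U.left) [WeaklyEtale f] :
    mkOver f ⟶ U :=
  MorphismProperty.Over.homMk f rfl trivial

@[simp] theorem mkOverMap_left {U : X.ProEt} {Y : Scheme.{u}} (f : Y ⟶ U.left) [WeaklyEtale f] :
    (mkOverMap f).left = f := rfl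

set_option backward.isDefEq.respectTransparency.types false in
theorem arrows_mkOverMap_iff {U : X.ProEt} (R : Sieve U) {Y : Scheme.{u}} (f : Y ⟶ U.left)
    [WeaklyEtale f] :
    (Sieve.overEquiv _ (R.functorPushforward (Scheme.ProEt.forget X))) f ↔ R (mkOverMap f) := by
  rw [Sieve.overEquiv_iff]
  constructor
  · rintro ⟨W, g, h, hg, hh⟩
    let k : mkOver f ⟶ W := (Scheme.ProEt.forgetFullyFaithful X).preimage (X := mkOver f) (Y := W) h
    have : mkOverMap f = k ≫ g := by
      refine (Scheme.ProEt.forget X).map_injective ?_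
      refine Eq.trans ?_ ((Scheme.ProEt.forget X).map_comp k g).symm
      refine Eq.trans ?_ (congrArg (· ≫ (Scheme.ProEt.forget X).map g)
        ((Scheme.ProEt.forgetFullyFaithful X).map_preimage (X := mkOver f) (Y := W) h).symm)
      exact hh
    rw [this]
    exact R.downward_closed hg _
  · intro h
    exact ⟨_, mkOverMap f, 𝟙 ((Scheme.ProEt.forget X).obj (mkOver f)), h, (Category.id_comp _).symm⟩

instance (U V : X.ProEt) (g : V ⟶ U) : WeaklyEtale g.left :=
  MorphismProperty.of_postcomp @WeaklyEtale g.left U.hom U.prop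
    (by rw [MorphismProperty.Over.w g]; exact V.prop)

set_option backward.isDefEq.respectTransparency.types false in
theorem exists_affine_refinement {U : X.ProEt} [CompactSpace U.left] {R : Sieve U}
    (hR : R ∈ Scheme.ProEt.topology X U) :
    ∃ (ι : Type u) (_ : Finite ι) (V : ι → X.ProEt) (g : ∀ i, V i ⟶ U),
      (∀ i, IsAffine (V i).left) ∧ (∀ i, R (g i)) ∧ ∀ x : U.left, ∃ i y, (g i).left y = x := by
  rw [mem_topology_iff] at hR
  obtain ⟨P, hP, hle⟩ :=
    (Precoverage.mem_toGrothendieck_iff_of_isStableUnderComposition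
      (J := Scheme.proetalePrecoverage.{u}) (X := U.left)).mp hR
  obtain ⟨𝒰, h, rfl⟩ := Scheme.mem_propQCPrecoverage_iff_exists_quasiCompactCover.mp hP
  obtain ⟨𝒱, f, hfin, -⟩ := QuasiCompactCover.exists_hom 𝒰
  obtain ⟨n, ⟨e⟩⟩ := Finite.exists_equiv_fin 𝒱.I₀
  haveI : ∀ j, WeaklyEtale (𝒱.f j) := fun j => 𝒱.map_prop j
  refine ⟨ULift.{u} (Fin n), inferInstance, fun k => mkOver (𝒱.f (e.symm k.down)),
    fun k => mkOverMap (𝒱.f (e.symm k.down)), fun k => ?_, fun k => ?_,
    fun x => ⟨⟨e (𝒱.idx x)⟩, ?_⟩⟩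
  · exact inferInstanceAs (IsAffine (Spec (𝒱.X _)))
  · rw [← arrows_mkOverMap_iff]
    have : 𝒱.f (e.symm k.down) = f.h₀ (e.symm k.down) ≫ 𝒰.f (f.s₀ (e.symm k.down)) :=
      (f.w₀ (e.symm k.down)).symm
    simp only [this]
    exact Sieve.downward_closed _ (hle _ _ ⟨f.s₀ (e.symm k.down)⟩) _
  · show ∃ y, (𝒱.f (e.symm (e (𝒱.idx x)))) y = x
    have := e.symm_apply_apply (𝒱.idx x)
    generalize e.symm (e (𝒱.idx x)) = j at this ⊢
    subst this
    exact 𝒱.covers x

set_option backward.isDefEq.respectTransparency.types false in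
theorem generate_ofArrows_mem_of_quasiCompact {U : X.ProEt} {ι : Type u} [Finite ι] (V : ι → X.ProEt)
    (g : ∀ i, V i ⟶ U) [∀ i, QuasiCompact (g i).left] (h : ∀ x : U.left, ∃ i y, (g i).left y = x) :
    Sieve.ofArrows V g ∈ Scheme.ProEt.topology X U := by
  rw [mem_topology_iff]
  let 𝒰 : Scheme.Cover.{u} (Scheme.precoverage @WeaklyEtale) U.left :=
    { I₀ := ι
      X := fun i => (V i).left
      f := fun i => (g i).left
      mem₀ := (Scheme.presieve₀_mem_precoverage_iff _).mpr ⟨h, fun i => inferInstance⟩ }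
  haveI : ∀ i, QuasiCompact (𝒰.f i) := fun i => inferInstanceAs (QuasiCompact (g i).left)
  haveI : Finite 𝒰.I₀ := ‹Finite ι›
  haveI : QuasiCompactCover 𝒰.toPreZeroHypercover := QuasiCompactCover.of_finite
  refine GrothendieckTopology.superset_covering _ ?_ (Scheme.Cover.mem_propQCTopology 𝒰)
  rw [Sieve.generate_le_iff, Presieve.ofArrows_le_iff]
  intro i
  rw [Sieve.overEquiv_iff]
  exact ⟨_, g i, Over.homMk (𝟙 _) ((Category.id_comp _).trans (MorphismProperty.Over.w (g i)).symm),
    Sieve.ofArrows_mk V g i, Over.OverMorphism.ext (Category.id_comp _).symm⟩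

set_option backward.isDefEq.respectTransparency.types false in
theorem generate_ofArrows_mem_of_isOpenMap {U : X.ProEt} {ι : Type u} (V : ι → X.ProEt)
    (g : ∀ i, V i ⟶ U) (ho : ∀ i, IsOpenMap (g i).left) (h : ∀ x : U.left, ∃ i y, (g i).left y = x) :
    Sieve.ofArrows V g ∈ Scheme.ProEt.topology X U := by
  rw [mem_topology_iff]
  let 𝒰 : Scheme.Cover.{u} (Scheme.precoverage @WeaklyEtale) U.left :=
    { I₀ := ι
      X := fun i => (V i).left
      f := fun i => (g i).left
      mem₀ := (Scheme.presieve₀_mem_precoverage_iff _).mpr ⟨h, fun i => inferInstance⟩ }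
  haveI : QuasiCompactCover 𝒰.toPreZeroHypercover :=
    QuasiCompactCover.of_isOpenMap ho
  refine GrothendieckTopology.superset_covering _ ?_ (Scheme.Cover.mem_propQCTopology 𝒰)
  rw [Sieve.generate_le_iff, Presieve.ofArrows_le_iff]
  intro i
  rw [Sieve.overEquiv_iff]
  exact ⟨_, g i, Over.homMk (𝟙 _) ((Category.id_comp _).trans (MorphismProperty.Over.w (g i)).symm),
    Sieve.ofArrows_mk V g i, Over.OverMorphism.ext (Category.id_comp _).symm⟩

set_option backward.isDefEq.respectTransparency.types false in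
theorem generate_ofArrows_mem_of_isOpenImmersion {U : X.ProEt} {ι : Type u} (V : ι → X.ProEt)
    (g : ∀ i, V i ⟶ U) [∀ i, IsOpenImmersion (g i).left] (h : ∀ x : U.left, ∃ i y, (g i).left y = x) :
    Sieve.ofArrows V g ∈ Scheme.ProEt.topology X U :=
  generate_ofArrows_mem_of_isOpenMap V g (fun i => (g i).left.isOpenEmbedding.isOpenMap) h

end Groth.L27.ProEt
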