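import Groth.Agent.L27.ProEt.WContr
import Groth.Agent.L27.WContractible

/-! Coverings by weakly contractible objects. -/

set_option autoImplicit false
set_option linter.style.haveILetI false
universe u v

open CategoryTheory CategoryTheory.Limits AlgebraicGeometry Opposite MorphismProperty

namespace Groth.L27.ProEt

theorem isWContractible_of_ringEquiv {A A' : Type u} [CommRing A] [CommRing A'] (e : A ≃+* A')
    (h : EtPBC.IsWContractible A) : EtPBC.IsWContractible A' := by
  intro B _ _ hff hB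
  letI : Algebra A A' := e.toRingHom.toAlgebra
  letI : Algebra A B := ((algebraMap A' B).comp e.toRingHom).toAlgebra
  haveI : IsScalarTower A A' B := .of_algebraMap_eq' rfl
  haveI : Algebra.Etale A A' := RingHom.etale_algebraMap.mp (RingHom.Etale.of_bijective e.bijective)
  haveI : Algebra.WeaklyEtale A B := Algebra.WeaklyEtale.trans A A' B
  haveI : Module.FaithfullyFlat A A' :=
    RingHom.FaithfullyFlat.of_bijective e.bijective
  haveI := hff
  haveI : Module.FaithfullyFlat A B := Module.FaithfullyFlat.trans A A' B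
  obtain ⟨r⟩ := h B inferInstance inferInstance
  exact ⟨{ e.toRingHom.comp r.toRingHom with
    commutes' := fun a => by
      obtain ⟨a, rfl⟩ := e.surjective a
      exact congrArg e (r.commutes a) }⟩

variable {X : Scheme.{u}}

set_option backward.isDefEq.respectTransparency.types false in
theorem exists_affine_wContractible_over (U : X.ProEt) [IsAffine U.left] :
    ∃ (V : X.ProEt) (g : V ⟶ U), IsAffine V.left ∧ Surjective g.left ∧
      EtPBC.IsWContractible ↥(Γ(V.left, ⊤)) := by
  obtain ⟨D, _, instD, hff, hD, hWC⟩ := WContractible.exists_cover Γ(U.left, ⊤)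
  let φ : Γ(U.left, ⊤) ⟶ CommRingCat.of D := CommRingCat.ofHom (algebraMap _ D)
  haveI : WeaklyEtale (Spec.map φ) := (Groth.L20.weaklyEtale_specMap_iff φ).mpr (by
    have e : φ.hom.toAlgebra = instD := Algebra.algebra_ext _ _ fun r => rfl
    rw [e]
    exact IndEtale.weaklyEtale _ D hD)
  haveI : Surjective (Spec.map φ) :=
    ⟨fun x => PrimeSpectrum.comap_surjective_of_faithfullyFlat (A := Γ(U.left, ⊤)) (B := D) x⟩
  let f : Spec (CommRingCat.of D) ⟶ U.left := Spec.map φ ≫ U.left.isoSpec.inv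
  exact ⟨mkOver f, mkOverMap f, inferInstanceAs (IsAffine (Spec _)), inferInstanceAs (Surjective f),
    isWContractible_of_ringEquiv (Scheme.ΓSpecIso (CommRingCat.of D)).symm.commRingCatIsoToRingEquiv hWC⟩

theorem exists_wContractible_family (U : X.ProEt) {ι : Type u} (W : ι → U.left.Opens)
    (hW : ∀ i, IsAffineOpen (W i)) (hc : (⋃ i, (W i : Set U.left)) = Set.univ) :
    ∃ (V : ι → X.ProEt) (g : ∀ i, V i ⟶ U),
      Sieve.ofArrows V g ∈ Scheme.ProEt.topology X U ∧ (∀ x : U.left, ∃ i y, (g i).left y = x) ∧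
        ∀ i, IsAffine (V i).left ∧ EtPBC.IsWContractible ↥(Γ((V i).left, ⊤)) := by
  haveI : ∀ i, IsAffine (mkOpen U (W i)).left := hW
  choose V g hV hs hwc using fun i => exists_affine_wContractible_over (mkOpen U (W i))
  haveI := hV
  refine ⟨V, fun i => g i ≫ mkOpenHom U (W i), ?_, fun x => ?_, fun i => ⟨hV i, hwc i⟩⟩
  · refine (Scheme.ProEt.topology X).transitive (ofArrows_mkOpenHom_mem W hc) _ ?_
    rintro Y f ⟨_, a, _, ⟨i⟩, rfl⟩
    rw [Sieve.pullback_comp]
    refine (Scheme.ProEt.topology X).pullback_stable a ?_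
    haveI : IsAffine (mkOpen U (W i)).left := hW i
    refine GrothendieckTopology.superset_covering _ ?_
      (generate_ofArrows_mem_of_quasiCompact (U := mkOpen U (W i)) (fun _ : PUnit.{u + 1} => V i)
        (fun _ => g i) fun x => ⟨PUnit.unit, (hs i).surj x⟩)
    rw [Sieve.generate_le_iff, Presieve.ofArrows_le_iff]
    intro _
    exact Sieve.ofArrows_mk V (fun i => g i ≫ mkOpenHom U (W i)) i
  · obtain ⟨i, hi⟩ := Set.mem_iUnion.mp (hc.ge (Set.mem_univ x))
    obtain ⟨y, hy⟩ := (hs i).surj ⟨x, hi⟩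
    exact ⟨i, y, congrArg Subtype.val hy⟩

theorem exists_affineOpens_cover (Y : Scheme.{u}) :
    ∃ (ι : Type u) (W : ι → Y.Opens), (∀ i, IsAffineOpen (W i)) ∧ (⋃ i, (W i : Set Y)) = Set.univ := by
  choose W hW hx _ using fun x : Y =>
    exists_isAffineOpen_mem_and_subset (U := (⊤ : Y.Opens)) (TopologicalSpace.Opens.mem_top x)
  exact ⟨Y, W, hW, Set.eq_univ_of_forall fun x => Set.mem_iUnion.mpr ⟨x, hx x⟩⟩

set_option backward.isDefEq.respectTransparency.types false in
theorem isWC_of_disjoint_cover {U : X.ProEt} {ι : Type u} (V : ι → X.ProEt) (c : ∀ i, V i ⟶ U)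
    [∀ i, IsOpenImmersion (c i).left] [∀ i, IsAffine (V i).left]
    (hd : Pairwise fun i j => Disjoint (Set.range (c i).left) (Set.range (c j).left))
    (hc : ∀ x : U.left, ∃ i y, (c i).left y = x)
    (h : ∀ i, EtPBC.IsWContractible ↥(Γ((V i).left, ⊤))) : ProEtS.IsWC U := by
  refine isWC_of_refine fun R hR => ?_
  choose n W _ hWd hWc hWR using fun i =>
    exists_refinement (h i) ((Scheme.ProEt.topology X).pullback_stable (c i) hR)
  refine ⟨Σ i, Fin (n i), fun p => (c p.1).left ''ᵁ (W p.1 p.2), ?_, ?_, ?_⟩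
  · rintro ⟨i, k⟩ ⟨j, l⟩ hne
    rw [Set.disjoint_left]
    rintro _ ⟨a, ha, rfl⟩ ⟨b, hb, hab⟩
    by_cases e : i = j
    · subst e
      have := (c i).left.isOpenEmbedding.injective hab
      subst this
      exact Set.disjoint_left.mp (hWd i fun e => hne (congrArg (Sigma.mk i) e)) ha hb
    · exact Set.disjoint_left.mp (hd e) ⟨a, rfl⟩ ⟨b, hab⟩
  · rw [Set.eq_univ_iff_forall]
    intro x
    obtain ⟨i, y, rfl⟩ := hc x
    obtain ⟨k, hk⟩ := Set.mem_iUnion.mp ((hWc i).ge (Set.mem_univ y))
    exact Set.mem_iUnion.mpr ⟨⟨i, k⟩, y, hk, rfl⟩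
  · rintro ⟨i, k⟩
    let t : mkOpen U ((c i).left ''ᵁ W i k) ⟶ mkOpen (V i) (W i k) :=
      MorphismProperty.Over.homMk ((c i).left.isoImage (W i k)).inv (by
        change ((c i).left.isoImage (W i k)).inv ≫ (W i k).ι ≫ (V i).hom =
          ((c i).left ''ᵁ W i k).ι ≫ U.hom
        rw [← MorphismProperty.Over.w (c i), Scheme.Hom.isoImage_inv_ι_assoc]) trivial
    have : t ≫ mkOpenHom (V i) (W i k) ≫ c i = mkOpenHom U ((c i).left ''ᵁ W i k) :=
      MorphismProperty.Over.Hom.ext ((c i).left.isoImage_inv_ι (W i k))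
    rw [← this]
    exact R.downward_closed (hWR i k) t

set_option backward.isDefEq.respectTransparency.types false in
theorem exists_isWC_cover (U : X.ProEt) {ι : Type u} (W : ι → U.left.Opens)
    (hW : ∀ i, IsAffineOpen (W i)) (hc : (⋃ i, (W i : Set U.left)) = Set.univ) :
    ∃ (V : X.ProEt) (g : V ⟶ U), Sieve.generate (Presieve.singleton g) ∈ Scheme.ProEt.topology X U ∧
      (Finite ι → IsAffine V.left) ∧ ProEtS.IsWC V := by
  obtain ⟨V, g, hmem, -, hV⟩ := exists_wContractible_family U W hW hc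
  haveI : ∀ i, IsAffine (V i).left := fun i => (hV i).1
  let σ : (∐ fun i => (V i).left) ⟶ U.left := Sigma.desc fun i => (g i).left
  haveI : WeaklyEtale σ := IsZariskiLocalAtSource.sigmaDesc (P := @WeaklyEtale) fun i => inferInstance
  let c : ∀ i, V i ⟶ mkOver σ := fun i => MorphismProperty.Over.homMk (Sigma.ι (fun i => (V i).left) i)
    (by
      change Sigma.ι (fun i => (V i).left) i ≫ σ ≫ U.hom = (V i).hom
      rw [Sigma.ι_desc_assoc, MorphismProperty.Over.w (g i)]) trivial
  haveI : ∀ i, IsOpenImmersion (c i).left := fun i =>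
    inferInstanceAs (IsOpenImmersion (Sigma.ι (fun i => (V i).left) i))
  refine ⟨mkOver σ, mkOverMap σ, ?_, fun hfin => inferInstanceAs (IsAffine (∐ fun i => (V i).left)), ?_⟩
  · refine GrothendieckTopology.superset_covering _ ?_ hmem
    rw [Sieve.generate_le_iff, Presieve.ofArrows_le_iff]
    intro i
    exact ⟨_, c i, mkOverMap σ, Presieve.singleton.mk, MorphismProperty.Over.Hom.ext (Sigma.ι_desc _ i)⟩
  · refine isWC_of_disjoint_cover V c (fun i j hij => ?_) (fun x => ?_) fun i => (hV i).2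
    · exact TopologicalSpace.Opens.coe_disjoint.mpr
        (AlgebraicGeometry.disjoint_opensRange_sigmaι (fun i => (V i).left) i j hij)
    · obtain ⟨i, y, hy⟩ := (sigmaOpenCover fun i => (V i).left).exists_eq x
      exact ⟨i, y, hy⟩

theorem exists_finite_affineOpens_cover (Y : Scheme.{u}) [CompactSpace Y] :
    ∃ (ι : Type u) (_ : Finite ι) (W : ι → Y.Opens),
      (∀ i, IsAffineOpen (W i)) ∧ (⋃ i, (W i : Set Y)) = Set.univ := by
  obtain ⟨ι, W, hW, hc⟩ := exists_affineOpens_cover Y
  obtain ⟨t, ht⟩ := isCompact_univ.elim_finite_subcover (fun i => (W i : Set Y)) (fun i => (W i).2) hc.ge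
  exact ⟨t, inferInstance, fun i => W i, fun i => hW _, Set.eq_univ_of_forall fun x => by
    obtain ⟨i, hi, hx⟩ := Set.mem_iUnion₂.mp (ht (Set.mem_univ x))
    exact Set.mem_iUnion.mpr ⟨⟨i, hi⟩, hx⟩⟩

end Groth.L27.ProEt
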