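import Groth.Agent.L27.ProEt.Sections
import Groth.Agent.L27.ProEt.Continuity
import Mathlib.CategoryTheory.Functor.KanExtension.Adjunction

/-! Left Kan extension along base change, evaluated at weakly contractible affines. -/

set_option autoImplicit false
set_option linter.style.haveILetI false
universe u v

open CategoryTheory CategoryTheory.Limits AlgebraicGeometry Opposite MorphismProperty

namespace Groth.L27.ProEt

variable {X Y : Scheme.{u}}

theorem bijective_lan_restrict (f : X ⟶ Y) (F : Sheaf (Scheme.ProEt.topology Y) (Type (u + 1)))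
    (W : X.ProEt) {n : ℕ} (P : Fin n → W.left.Opens)
    (hd : Pairwise fun k l => Disjoint (P k : Set W.left) (P l))
    (hc : (⋃ k, (P k : Set W.left)) = Set.univ) :
    Function.Bijective fun (x : (((ProEtS.bcP f).op.lan.obj F.obj)).obj (op W)) (k : Fin n) =>
      ((ProEtS.bcP f).op.lan.obj F.obj).map (mkOpenHom W (P k)).op x := by
  haveI := preservesFiniteLimits_bcP f
  haveI : RepresentablyFlat (ProEtS.bcP f) := flat_of_preservesFiniteLimits _
  let G := ProEtS.bcP f
  let L := G.op.lan.obj F.obj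
  let η := G.op.lanUnit.app F.obj
  have hpt := Functor.isPointwiseLeftKanExtensionOfIsLeftKanExtension L η
  let rep : ∀ {Z : X.ProEt} (V : Y.ProEt), (Z ⟶ G.obj V) → F.obj.obj (op V) → L.obj (op Z) :=
    fun V a s => L.map a.op (η.app (op V) s)
  have rep_map : ∀ {Z Z' : X.ProEt} (b : Z' ⟶ Z) (V : Y.ProEt) (a : Z ⟶ G.obj V) (s : F.obj.obj (op V)),
      L.map b.op (rep V a s) = rep V (b ≫ a) s := fun b V a s =>
    (Functor.map_comp_apply L _ _ _).symm
  have rep_nat : ∀ {Z : X.ProEt} {V V' : Y.ProEt} (g : V' ⟶ V) (a : Z ⟶ G.obj V')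
      (s : F.obj.obj (op V)), rep V' a (F.obj.map g.op s) = rep V (a ≫ G.map g) s := fun g a s => by
    rw [← rep_map a]
    exact congrArg (L.map a.op) (NatTrans.naturality_apply η g.op s)
  have rep_surj : ∀ {Z : X.ProEt} (z : L.obj (op Z)), ∃ V a s, rep V a s = z := fun {Z} z => by
    obtain ⟨g, s, rfl⟩ := Types.jointly_surjective_of_isColimit (hpt (op Z)) z
    exact ⟨g.left.unop, g.hom.unop, s, rfl⟩
  have rep_eq : ∀ {Z : X.ProEt} (V : Y.ProEt) (a : Z ⟶ G.obj V) (s t : F.obj.obj (op V)),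
      rep V a s = rep V a t → ∃ (V' : Y.ProEt) (g : V' ⟶ V) (a' : Z ⟶ G.obj V'),
        a' ≫ G.map g = a ∧ F.obj.map g.op s = F.obj.map g.op t := fun {Z} V a s t e => by
    obtain ⟨j, g, hg⟩ := (Types.FilteredColimit.isColimit_eq_iff' (hpt (op Z))
      (i := CostructuredArrow.mk (S := G.op) a.op) s t).mp e
    exact ⟨j.left.unop, g.left.unop, j.hom.unop, congrArg Quiver.Hom.unop (CostructuredArrow.w g), hg⟩
  let K := ULift.{u} (Fin n)
  let O : K → W.left.Opens := fun k => P k.down
  have hdO : Pairwise fun k l => Disjoint (O k : Set W.left) (O l) :=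
    fun k l hkl => hd fun e => hkl (ULift.ext _ _ e)
  have hcO : (⋃ k, (O k : Set W.left)) = Set.univ := by
    rw [← hc]
    exact (Equiv.ulift.surjective).iUnion_comp fun k => (P k : Set W.left)
  refine ⟨fun x y hxy => ?_, fun y => ?_⟩
  · obtain ⟨V₁, a₁, s₁, rfl⟩ := rep_surj x
    obtain ⟨V₂, a₂, s₂, rfl⟩ := rep_surj y
    obtain ⟨m, i₁, i₂, -⟩ := IsFilteredOrEmpty.cocone_objs
      (CostructuredArrow.mk (S := G.op) a₁.op) (CostructuredArrow.mk (S := G.op) a₂.op)
    let V := m.left.unop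
    let a : W ⟶ G.obj V := m.hom.unop
    have e₁ : rep V₁ a₁ s₁ = rep V a (F.obj.map i₁.left s₁) := by
      have := rep_nat i₁.left.unop a s₁
      rw [show a ≫ G.map i₁.left.unop = a₁ from congrArg Quiver.Hom.unop (CostructuredArrow.w i₁)] at this
      exact this.symm
    have e₂ : rep V₂ a₂ s₂ = rep V a (F.obj.map i₂.left s₂) := by
      have := rep_nat i₂.left.unop a s₂
      rw [show a ≫ G.map i₂.left.unop = a₂ from congrArg Quiver.Hom.unop (CostructuredArrow.w i₂)] at this
      exact this.symm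
    rw [e₁, e₂] at hxy ⊢
    generalize F.obj.map i₁.left s₁ = s at hxy ⊢
    generalize F.obj.map i₂.left s₂ = t at hxy ⊢
    have h : ∀ k : K, ∃ (V' : Y.ProEt) (g : V' ⟶ V) (a' : mkOpen W (O k) ⟶ G.obj V'),
        a' ≫ G.map g = mkOpenHom W (O k) ≫ a ∧ F.obj.map g.op s = F.obj.map g.op t := fun k =>
      rep_eq V _ s t ((rep_map _ V a s).symm.trans ((congrFun hxy k.down).trans (rep_map _ V a t)))
    choose V' g a' ha' hst using h
    obtain ⟨U, c, hoi, hdc, hcc, hdesc⟩ := exists_coproduct V'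
    obtain ⟨g', hg'⟩ := hdesc V g
    obtain ⟨b, hb⟩ := exists_glue_proEt O hdO hcO fun k => a' k ≫ G.map (c k)
    have hba : b ≫ G.map g' = a := MorphismProperty.Over.Hom.ext (hom_ext_of_iUnion O hcO fun k =>
      congrArg (fun h : mkOpen W (O k) ⟶ G.obj V => h.left)
        (show mkOpenHom W (O k) ≫ b ≫ G.map g' = mkOpenHom W (O k) ≫ a by
          rw [← Category.assoc, hb, Category.assoc, ← G.map_comp, hg', ha']))
    have hst' : F.obj.map g'.op s = F.obj.map g'.op t :=
      (bijective_sheaf_of_disjoint F V' c hdc hcc).1 (funext fun k => by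
        simp only [← Functor.map_comp_apply, ← op_comp, hg']
        exact hst k)
    rw [← hba, ← rep_nat g' b s, ← rep_nat g' b t, hst']
  · choose V a s hs using fun k : K => rep_surj (y k.down)
    obtain ⟨U, c, hoi, hdc, hcc, -⟩ := exists_coproduct V
    obtain ⟨b, hb⟩ := exists_glue_proEt O hdO hcO fun k => a k ≫ G.map (c k)
    obtain ⟨t, ht⟩ := (bijective_sheaf_of_disjoint F V c hdc hcc).2 s
    refine ⟨rep U b t, funext fun k => ?_⟩
    show L.map (mkOpenHom W (O ⟨k⟩)).op (rep U b t) = y k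
    rw [rep_map, hb, ← rep_nat, show F.obj.map (c ⟨k⟩).op t = s ⟨k⟩ from congrFun ht ⟨k⟩, hs]

end Groth.L27.ProEt
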