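import Groth.Agent.L27.ProEt.Covers
import Mathlib.CategoryTheory.Sites.Point.OfIsCofiltered
import Mathlib.CategoryTheory.Sites.Point.Conservative

/-! Points of the small pro-etale site. -/

set_option autoImplicit false
set_option linter.style.haveILetI false
universe u v

open CategoryTheory CategoryTheory.Limits AlgebraicGeometry Opposite MorphismProperty

namespace Groth.L27.ProEt

variable {X : Scheme.{u}}

/-- Clopen neighbourhoods of a point. -/
def Nbhd (W : X.ProEt) (x : W.left) : Type u :=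
  {O : W.left.Opens // IsClosed (O : Set W.left) ∧ x ∈ O}

instance (W : X.ProEt) (x : W.left) : Preorder (Nbhd W x) :=
  inferInstanceAs (Preorder {O : W.left.Opens // IsClosed (O : Set W.left) ∧ x ∈ O})

/-- The whole space as a neighbourhood. -/
def Nbhd.top (W : X.ProEt) (x : W.left) : Nbhd W x :=
  ⟨⊤, isClosed_univ, TopologicalSpace.Opens.mem_top x⟩

/-- Intersection of neighbourhoods. -/
def Nbhd.inf {W : X.ProEt} {x : W.left} (A B : Nbhd W x) : Nbhd W x :=
  ⟨A.1 ⊓ B.1, A.2.1.inter B.2.1, ⟨A.2.2, B.2.2⟩⟩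

instance (W : X.ProEt) (x : W.left) : IsCofiltered (Nbhd W x) where
  cone_objs A B := ⟨A.inf B, homOfLE (inf_le_left (a := A.1) (b := B.1)),
    homOfLE (inf_le_right (a := A.1) (b := B.1)), trivial⟩
  cone_maps {A B} f g := ⟨A, 𝟙 A, by rw [Subsingleton.elim f g]⟩
  nonempty := ⟨Nbhd.top W x⟩

instance (W : X.ProEt) (x : W.left) : InitiallySmall.{u + 1} (Nbhd W x) :=
  initiallySmall_of_essentiallySmall _

/-- The inclusion between open subschemes in the site. -/
noncomputable def mkOpenLE (W : X.ProEt) {A B : W.left.Opens} (h : A ≤ B) :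
    mkOpen W A ⟶ mkOpen W B :=
  MorphismProperty.Over.homMk (W.left.homOfLE h) (by
    change W.left.homOfLE h ≫ B.ι ≫ W.hom = A.ι ≫ W.hom
    rw [Scheme.homOfLE_ι_assoc]) trivial

@[simp] theorem mkOpenLE_comp (W : X.ProEt) {A B : W.left.Opens} (h : A ≤ B) :
    mkOpenLE W h ≫ mkOpenHom W B = mkOpenHom W A :=
  MorphismProperty.Over.Hom.ext (Scheme.homOfLE_ι _ h)

/-- The system of clopen neighbourhoods in the site. -/
noncomputable abbrev nbhdFunctor (W : X.ProEt) (x : W.left) : Nbhd W x ⥤ X.ProEt where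
  obj A := mkOpen W A.1
  map {A B} h := mkOpenLE W (leOfHom h)
  map_id A := MorphismProperty.Over.Hom.ext (Scheme.homOfLE_rfl _ _)
  map_comp {A B C} f g := MorphismProperty.Over.Hom.ext
    (Scheme.homOfLE_homOfLE W.left (U := A.1) (V := B.1) (W := C.1) (leOfHom f) (leOfHom g)).symm

theorem nbhdFunctor_hp (W : X.ProEt) [IsAffine W.left] (hW : EtPBC.IsWContractible ↥(Γ(W.left, ⊤)))
    (x : W.left) ⦃U : X.ProEt⦄ (R : Sieve U) (hR : R ∈ Scheme.ProEt.topology X U)
    ⦃A : Nbhd W x⦄ (f : (nbhdFunctor W x).obj A ⟶ U) :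
    ∃ (Y : X.ProEt) (g : Y ⟶ U) (_ : R g) (V : Nbhd W x) (q : V ⟶ A)
      (a : (nbhdFunctor W x).obj V ⟶ Y), a ≫ g = (nbhdFunctor W x).map q ≫ f := by
  let C : W.left.Opens := ⟨(A.1 : Set W.left)ᶜ, A.2.1.isOpen_compl⟩
  let O : ULift.{u} Bool → W.left.Opens := fun b => cond b.down A.1 C
  have hO : (⋃ b, (O b : Set W.left)) = Set.univ := Set.eq_univ_of_forall fun z => by
    by_cases hz : z ∈ (A.1 : Set W.left)
    · exact Set.mem_iUnion.mpr ⟨⟨true⟩, hz⟩
    · exact Set.mem_iUnion.mpr ⟨⟨false⟩, hz⟩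
  let R₀ : Sieve W := Sieve.generate fun Z k =>
    (∃ k' : Z ⟶ mkOpen W A.1, R (k' ≫ f) ∧ k' ≫ mkOpenHom W A.1 = k) ∨
      (∃ k' : Z ⟶ mkOpen W C, k' ≫ mkOpenHom W C = k)
  have hR₀ : R₀ ∈ Scheme.ProEt.topology X W := by
    refine (Scheme.ProEt.topology X).transitive (ofArrows_mkOpenHom_mem O hO) _ ?_
    rintro Z k ⟨_, a, _, ⟨⟨b⟩⟩, rfl⟩
    rw [Sieve.pullback_comp]
    refine (Scheme.ProEt.topology X).pullback_stable a ?_
    cases b
    · refine GrothendieckTopology.superset_covering _ ?_ ((Scheme.ProEt.topology X).top_mem _)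
      intro Z' k _
      exact ⟨_, 𝟙 _, _, Or.inr ⟨k, rfl⟩, Category.id_comp _⟩
    · refine GrothendieckTopology.superset_covering _ ?_ ((Scheme.ProEt.topology X).pullback_stable f hR)
      intro Z' k hk
      exact ⟨_, 𝟙 _, _, Or.inl ⟨k, hk, rfl⟩, Category.id_comp _⟩
  obtain ⟨n, P, hP, -, hPc, hPR⟩ := exists_refinement hW hR₀
  obtain ⟨k, hk⟩ := Set.mem_iUnion.mp (hPc.ge (Set.mem_univ x))
  obtain ⟨Z, a, h, hh, hah⟩ := hPR k
  rcases hh with ⟨k', hk', rfl⟩ | ⟨k', rfl⟩
  · have hle : P k ≤ A.1 := fun z hz => by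
      have e := congrArg (fun m : mkOpen W (P k) ⟶ W => m.left (⟨z, hz⟩ : (P k : Scheme))) hah
      have e' : ((k'.left (a.left ⟨z, hz⟩)).1 : W.left) = z := e
      rw [SetLike.mem_coe] at *
      rw [← e']
      exact (k'.left (a.left ⟨z, hz⟩)).2
    refine ⟨_, k' ≫ f, hk', ⟨P k, (hP k).1, hk⟩, homOfLE (show (⟨P k, (hP k).1, hk⟩ : Nbhd W x) ≤ A from hle),
      a, ?_⟩
    have e : a ≫ k' = mkOpenLE W hle := by
      refine MorphismProperty.Over.Hom.ext ((cancel_mono A.1.ι).mp ?_)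
      exact (congrArg (fun m : mkOpen W (P k) ⟶ W => m.left) hah).trans (Scheme.homOfLE_ι _ hle).symm
    rw [← Category.assoc]
    exact congrArg (· ≫ f) e
  · have e := congrArg (fun m : mkOpen W (P k) ⟶ W => m.left (⟨x, hk⟩ : (P k : Scheme))) hah
    have e' : ((k'.left (a.left ⟨x, hk⟩)).1 : W.left) = x := e
    have h2 : ((k'.left (a.left ⟨x, hk⟩)).1 : W.left) ∈ C := (k'.left (a.left ⟨x, hk⟩)).2
    rw [e'] at h2
    exact absurd A.2.2 h2

/-- An affine w-contractible object with one of its points. -/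
structure PointIndex (X : Scheme.{u}) : Type (u + 1) where
  /-- The object. -/
  W : X.ProEt
  affine : IsAffine W.left
  wc : EtPBC.IsWContractible ↥(Γ(W.left, ⊤))
  /-- The point. -/
  x : W.left

/-- The associated point of the site. -/
noncomputable def PointIndex.point (p : PointIndex X) :
    GrothendieckTopology.Point.{u + 1} (Scheme.ProEt.topology X) :=
  haveI := p.affine
  GrothendieckTopology.Point.ofIsCofiltered.{u + 1} (nbhdFunctor p.W p.x) (nbhdFunctor_hp p.W p.wc p.x)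

/-- The family of all these points. -/
def points (X : Scheme.{u}) :
    ObjectProperty (GrothendieckTopology.Point.{u + 1} (Scheme.ProEt.topology X)) :=
  ObjectProperty.ofObj (PointIndex.point (X := X))

open GrothendieckTopology.Point.ofIsCofiltered in
theorem exists_open_of_point (p : PointIndex X) {U : X.ProEt} (g : p.W ⟶ U) (S : Sieve U)
    (h : ∀ z : p.point.fiber.obj U, ∃ (Y : X.ProEt) (k : Y ⟶ U) (_ : S k) (y : p.point.fiber.obj Y),
      p.point.fiber.map k y = z) :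
    ∃ O : p.W.left.Opens, p.x ∈ O ∧ S (mkOpenHom p.W O ≫ g) := by
  haveI := p.affine
  let T := Nbhd.top p.W p.x
  obtain ⟨Y, k, hk, y, hy⟩ := h (fiberMk.{u + 1} (p := nbhdFunctor p.W p.x) (U := T) (mkOpenHom p.W T.1 ≫ g))
  obtain ⟨A, b, rfl⟩ := fiberMk_jointly_surjective.{u + 1} (p := nbhdFunctor p.W p.x) y
  let B := A.inf T
  let qA : B ⟶ A := homOfLE (inf_le_left (a := A.1) (b := T.1))
  let qT : B ⟶ T := homOfLE (inf_le_right (a := A.1) (b := T.1))
  have e : fiberMk.{u + 1} (p := nbhdFunctor p.W p.x) (b ≫ k) =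
      fiberMk.{u + 1} (p := nbhdFunctor p.W p.x) (U := T) (mkOpenHom p.W T.1 ≫ g) :=
    (fiber_map_fiberMk.{u + 1} _ b k).symm.trans hy
  rw [← fiberMk_map_comp.{u + 1} (nbhdFunctor p.W p.x) qA (b ≫ k),
    ← fiberMk_map_comp.{u + 1} (nbhdFunctor p.W p.x) qT] at e
  obtain ⟨V, q, hq⟩ := exists_of_fiberMk_eq_fiberMk e
  refine ⟨V.1, V.2.2, ?_⟩
  have : mkOpenHom p.W V.1 ≫ g =
      (((nbhdFunctor p.W p.x).map q ≫ (nbhdFunctor p.W p.x).map qA) ≫ b) ≫ k := by
    rw [Category.assoc, Category.assoc, hq, ← Category.assoc, ← Category.assoc]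
    congr 1
    change mkOpenHom p.W V.1 = (mkOpenLE p.W _ ≫ mkOpenLE p.W _) ≫ mkOpenHom p.W T.1
    rw [Category.assoc, mkOpenLE_comp, mkOpenLE_comp]
  rw [this]
  exact S.downward_closed hk _

theorem points_conservative (X : Scheme.{u}) : (points X).IsConservativeFamilyOfPoints := by
  refine ObjectProperty.IsConservativeFamilyOfPoints.mk' fun U S hS => ?_
  obtain ⟨ι, W, hW, hc⟩ := exists_affineOpens_cover U.left
  obtain ⟨V, g, hmem, -, hV⟩ := exists_wContractible_family U W hW hc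
  refine (Scheme.ProEt.topology X).transitive hmem _ ?_
  rintro Z k ⟨_, a, _, ⟨i⟩, rfl⟩
  rw [Sieve.pullback_comp]
  refine (Scheme.ProEt.topology X).pullback_stable a ?_
  choose O hxO hO using fun x : (V i).left =>
    exists_open_of_point (⟨V i, (hV i).1, (hV i).2, x⟩ : PointIndex X) (g i) S
      (hS ⟨_, ObjectProperty.ofObj_apply _ _⟩)
  refine GrothendieckTopology.superset_covering _ ?_
    (ofArrows_mkOpenHom_mem O (Set.eq_univ_of_forall fun x => Set.mem_iUnion.mpr ⟨x, hxO x⟩))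
  rw [Sieve.generate_le_iff, Presieve.ofArrows_le_iff]
  exact fun x => hO x

theorem hasEnoughPoints (X : Scheme.{u}) :
    GrothendieckTopology.HasEnoughPoints.{u + 1} (Scheme.ProEt.topology X) :=
  ⟨⟨points X, inferInstanceAs (ObjectProperty.Small.{u + 1} (ObjectProperty.ofObj _)),
    points_conservative X⟩⟩

end Groth.L27.ProEt
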