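import Groth.Agent.L27.ProEt.WContr
import Mathlib.CategoryTheory.Limits.Preserves.Shapes.Products
import Mathlib.CategoryTheory.Limits.Shapes.Opposites.Products
import Mathlib.CategoryTheory.Sites.LocallyBijective

/-! Sections of presheaves over disjoint decompositions and over weakly contractible affines. -/

set_option autoImplicit false
set_option linter.style.haveILetI false
universe u v

open CategoryTheory CategoryTheory.Limits AlgebraicGeometry Opposite MorphismProperty

namespace Groth.L27.ProEt

variable {X : Scheme.{u}}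

/-- A disjoint open decomposition is a coproduct in the site. -/
noncomputable def isColimitMkOpen {U : X.ProEt} {J : Type v} (W : J → U.left.Opens)
    (hd : Pairwise fun k l => Disjoint (W k : Set U.left) (W l))
    (hc : (⋃ k, (W k : Set U.left)) = Set.univ) :
    IsColimit (Cofan.mk U fun k => mkOpenHom U (W k)) :=
  Cofan.IsColimit.mk _ (fun s => (exists_glue_proEt W hd hc s.inj).choose)
    (fun s => (exists_glue_proEt W hd hc s.inj).choose_spec)
    fun s m hm => MorphismProperty.Over.Hom.ext (hom_ext_of_iUnion W hc fun k =>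
      (congrArg (fun f : mkOpen U (W k) ⟶ s.pt => f.left) (hm k)).trans
        (congrArg (fun f : mkOpen U (W k) ⟶ s.pt => f.left)
          ((exists_glue_proEt W hd hc s.inj).choose_spec k)).symm)

theorem bijective_restrict {U : X.ProEt} (F : X.ProEtᵒᵖ ⥤ Type v) [PreservesFiniteProducts F]
    {n : ℕ} (W : Fin n → U.left.Opens)
    (hd : Pairwise fun k l => Disjoint (W k : Set U.left) (W l))
    (hc : (⋃ k, (W k : Set U.left)) = Set.univ) :
    Function.Bijective fun (x : F.obj (op U)) (k : Fin n) => F.map (mkOpenHom U (W k)).op x := by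
  have hl := isLimitFanMkObjOfIsLimit F (fun k => op (mkOpen U (W k)))
    (fun k => (mkOpenHom U (W k)).op) (Cofan.IsColimit.op (isColimitMkOpen W hd hc))
  have h := (Types.isLimit_iff _).mp ⟨hl⟩
  have hs : ∀ y : ∀ k, F.obj (op (mkOpen U (W k))),
      (fun j : Discrete (Fin n) => y j.as) ∈
        (Discrete.functor fun k => F.obj (op (mkOpen U (W k)))).sections := by
    intro y i j f
    obtain rfl := Discrete.ext (Discrete.eq_of_hom f)
    obtain rfl : f = 𝟙 i := Subsingleton.elim _ _
    exact ConcreteCategory.congr_hom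
      ((Discrete.functor fun k => F.obj (op (mkOpen U (W k)))).map_id i) (y i.as)
  refine ⟨fun a b hab => ?_, fun y => ?_⟩
  · obtain ⟨x, -, hx⟩ := h _ (hs fun k => F.map (mkOpenHom U (W k)).op a)
    exact (hx a fun _ => rfl).trans (hx b fun j => (congrFun hab j.as).symm).symm
  · obtain ⟨x, hx, -⟩ := h _ (hs y)
    exact ⟨x, funext fun k => hx ⟨k⟩⟩

theorem bijective_toSheafify_of_restrict (F : X.ProEtᵒᵖ ⥤ Type (u + 1)) (W : X.ProEt)
    [IsAffine W.left] (hW : ProEtS.IsWC W)
    (hF : ∀ {n : ℕ} (P : Fin n → W.left.Opens),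
      (Pairwise fun k l => Disjoint (P k : Set W.left) (P l)) →
      (⋃ k, (P k : Set W.left)) = Set.univ →
      Function.Bijective fun (x : F.obj (op W)) (k : Fin n) => F.map (mkOpenHom W (P k)).op x) :
    Function.Bijective ((toSheafify (Scheme.ProEt.topology X) F).app (op W)) := by
  let J := Scheme.ProEt.topology X
  let η := toSheafify J F
  have hwc := isWContractible_of_isWC hW
  refine ⟨fun a b hab => ?_, fun y => ?_⟩
  · obtain ⟨n, P, -, hd, hc, hR⟩ :=
      exists_refinement hwc (Presheaf.equalizerSieve_mem J η a b hab)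
    exact (hF P hd hc).1 (funext fun k => hR k)
  · obtain ⟨n, P, -, hd, hc, hR⟩ := exists_refinement hwc (Presheaf.imageSieve_mem J η y)
    choose x hx using hR
    obtain ⟨t, ht⟩ := (hF P hd hc).2 x
    refine ⟨t, ?_⟩
    have hsep := ((isSheaf_iff_isSheaf_of_type _ _).mp ((presheafToSheaf J (Type (u + 1))).obj F).property).isSeparated
    let O : ULift.{u} (Fin n) → W.left.Opens := fun k => P k.down
    have hO : (⋃ k, (O k : Set W.left)) = Set.univ := by
      rw [← hc]
      exact (Equiv.ulift.surjective).iUnion_comp fun k => (P k : Set W.left)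
    refine (hsep _ (ofArrows_mkOpenHom_mem O hO)).ext fun Z f hf => ?_
    obtain ⟨_, a, _, ⟨⟨k⟩⟩, rfl⟩ := hf
    simp only [op_comp, Functor.map_comp_apply]
    congr 1
    rw [← hx k, ← congrFun ht k]
    exact (NatTrans.naturality_apply η _ t).symm

theorem bijective_toSheafify (F : X.ProEtᵒᵖ ⥤ Type (u + 1)) [PreservesFiniteProducts F] (W : X.ProEt)
    [IsAffine W.left] (hW : ProEtS.IsWC W) :
    Function.Bijective ((toSheafify (Scheme.ProEt.topology X) F).app (op W)) :=
  bijective_toSheafify_of_restrict F W hW fun P hd hc => bijective_restrict F P hd hc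

theorem bijective_sheaf_of_disjoint (F : Sheaf (Scheme.ProEt.topology X) (Type v)) {U : X.ProEt}
    {ι : Type u} (V : ι → X.ProEt) (c : ∀ i, V i ⟶ U) [∀ i, IsOpenImmersion (c i).left]
    (hd : Pairwise fun i j => Disjoint (Set.range (c i).left) (Set.range (c j).left))
    (hc : ∀ x : U.left, ∃ i y, (c i).left y = x) :
    Function.Bijective fun (x : F.obj.obj (op U)) (i : ι) => F.obj.map (c i).op x := by
  have hF := ((isSheaf_iff_isSheaf_of_type _ _).mp F.property)
  have hmem := generate_ofArrows_mem_of_isOpenImmersion V c hc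
  refine ⟨fun a b hab => (hF.isSeparated _ hmem).ext fun Z f hf => ?_, fun y => ?_⟩
  · obtain ⟨_, a, _, ⟨i⟩, rfl⟩ := hf
    simp only [op_comp, Functor.map_comp_apply]
    exact congrArg _ (congrFun hab i)
  · have hcompat : Presieve.Arrows.Compatible F.obj c y := by
      intro i j Z gi gj hij
      by_cases e : i = j
      · subst e
        rw [show gi = gj from MorphismProperty.Over.Hom.ext
          ((cancel_mono (c i).left).mp (congrArg (fun f : Z ⟶ U => f.left) hij))]
      · haveI : IsEmpty Z.left := ⟨fun z =>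
          Set.disjoint_left.mp (hd e) ⟨gi.left z, rfl⟩
            ⟨gj.left z, (congrArg (fun f : Z ⟶ U => f.left z) hij).symm⟩⟩
        exact (subsingleton_of_isEmpty F Z).elim _ _
    obtain ⟨t, ht, -⟩ := ((Presieve.isSheafFor_arrows_iff _ _).mp
      ((Presieve.isSheafFor_iff_generate _).mpr (hF _ hmem))) y hcompat
    exact ⟨t, funext ht⟩

theorem exists_coproduct {ι : Type u} (V : ι → X.ProEt) :
    ∃ (U : X.ProEt) (c : ∀ i, V i ⟶ U), (∀ i, IsOpenImmersion (c i).left) ∧
      (Pairwise fun i j => Disjoint (Set.range (c i).left) (Set.range (c j).left)) ∧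
      (∀ x : U.left, ∃ i y, (c i).left y = x) ∧
      ∀ (T : X.ProEt) (h : ∀ i, V i ⟶ T), ∃ g : U ⟶ T, ∀ i, c i ≫ g = h i := by
  let σ : (∐ fun i => (V i).left) ⟶ X := Sigma.desc fun i => (V i).hom
  haveI : WeaklyEtale σ := IsZariskiLocalAtSource.sigmaDesc (P := @WeaklyEtale) fun i => inferInstance
  let c : ∀ i, V i ⟶ Scheme.ProEt.mk σ := fun i =>
    MorphismProperty.Over.homMk (Sigma.ι (fun i => (V i).left) i) (Sigma.ι_desc _ i) trivial
  refine ⟨Scheme.ProEt.mk σ, c, fun i => inferInstanceAs (IsOpenImmersion (Sigma.ι (fun i => (V i).left) i)),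
    fun i j hij => TopologicalSpace.Opens.coe_disjoint.mpr
      (AlgebraicGeometry.disjoint_opensRange_sigmaι (fun i => (V i).left) i j hij), fun x => ?_,
    fun T h => ?_⟩
  · obtain ⟨i, y, hy⟩ := (sigmaOpenCover fun i => (V i).left).exists_eq x
    exact ⟨i, y, hy⟩
  · refine ⟨MorphismProperty.Over.homMk (Sigma.desc fun i => (h i).left) (Sigma.hom_ext _ _ fun i => ?_)
      trivial, fun i => MorphismProperty.Over.Hom.ext (Sigma.ι_desc _ i)⟩
    exact (Sigma.ι_desc_assoc _ i _).trans
      ((MorphismProperty.Over.w (h i)).trans (Sigma.ι_desc (fun i => (V i).hom) i).symm)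

end Groth.L27.ProEt
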