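import Groth.Agent.L27.ProEt.Glue
import Groth.Agent.L20.WeaklyEtale
import Groth.Prelude.Def_ProEtS
import Groth.Prelude.Def_PBC
import Mathlib.CategoryTheory.Sites.LocallySurjective
import Mathlib.CategoryTheory.Sites.EpiMono

/-! Weakly contractible objects of the small pro-etale site and w-contractible rings. -/

set_option autoImplicit false
set_option linter.style.haveILetI false
universe u v

open CategoryTheory CategoryTheory.Limits AlgebraicGeometry Opposite MorphismProperty

namespace Groth.L27.ProEt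

theorem exists_section {Y U : Scheme.{u}} [IsAffine Y] [IsAffine U] (f : Y ⟶ U) [WeaklyEtale f]
    [Surjective f] (h : EtPBC.IsWContractible ↥(Γ(U, ⊤))) : ∃ s : U ⟶ Y, s ≫ f = 𝟙 U := by
  have hw : WeaklyEtale (Spec.map f.appTop) := by
    have e : Spec.map f.appTop = Y.isoSpec.inv ≫ f ≫ U.isoSpec.hom := by
      rw [← Scheme.isoSpec_hom_naturality, Iso.inv_hom_id_assoc]
    rw [e]
    infer_instance
  have hff : f.appTop.hom.FaithfullyFlat :=
    (Flat.flat_and_surjective_iff_faithfullyFlat_of_isAffine f).mp ⟨inferInstance, inferInstance⟩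
  letI := f.appTop.hom.toAlgebra
  haveI : Algebra.WeaklyEtale Γ(U, ⊤) Γ(Y, ⊤) := (Groth.L20.weaklyEtale_specMap_iff _).mp hw
  obtain ⟨r⟩ := h Γ(Y, ⊤) hff inferInstance
  refine ⟨U.isoSpec.hom ≫ Spec.map (CommRingCat.ofHom r.toRingHom) ≫ Y.isoSpec.inv, ?_⟩
  rw [Category.assoc, Category.assoc, ← Scheme.isoSpec_inv_naturality, ← Spec.map_comp_assoc]
  have e2 : f.appTop ≫ CommRingCat.ofHom r.toRingHom = 𝟙 _ :=
    CommRingCat.hom_ext (RingHom.ext fun x => r.commutes x)
  rw [e2, Spec.map_id, Category.id_comp, Iso.hom_inv_id]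

variable {X : Scheme.{u}}

set_option backward.isDefEq.respectTransparency.types false in
theorem exists_refinement {U : X.ProEt} [IsAffine U.left]
    (h : EtPBC.IsWContractible ↥(Γ(U.left, ⊤))) {R : Sieve U}
    (hR : R ∈ Scheme.ProEt.topology X U) :
    ∃ (n : ℕ) (W : Fin n → U.left.Opens),
      (∀ k, IsClopen (W k : Set U.left)) ∧
      Pairwise (fun k l => Disjoint (W k : Set U.left) (W l)) ∧
      (⋃ k, (W k : Set U.left)) = Set.univ ∧ ∀ k, R (mkOpenHom U (W k)) := by
  obtain ⟨ι, hι, V, g, hV, hg, hcov⟩ := exists_affine_refinement hR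
  let σ : (∐ fun i => (V i).left) ⟶ U.left := Sigma.desc fun i => (g i).left
  haveI : WeaklyEtale σ := IsZariskiLocalAtSource.sigmaDesc (P := @WeaklyEtale) fun i => inferInstance
  haveI : Surjective σ := ⟨fun x => by
    obtain ⟨i, y, rfl⟩ := hcov x
    exact ⟨Sigma.ι (fun i => (V i).left) i y, by rw [← Scheme.Hom.comp_apply, Sigma.ι_desc]⟩⟩
  haveI : ∀ i, IsAffine (V i).left := hV
  obtain ⟨s, hs⟩ := exists_section σ h
  obtain ⟨n, ⟨e⟩⟩ := Finite.exists_equiv_fin ι
  let W : Fin n → U.left.Opens := fun k =>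
    s ⁻¹ᵁ (Sigma.ι (fun i => (V i).left) (e.symm k)).opensRange
  have hd : Pairwise (fun k l => Disjoint (W k : Set U.left) (W l)) := fun k l hkl =>
    Set.disjoint_left.mpr fun x hx hy => Set.disjoint_left.mp
      (AlgebraicGeometry.disjoint_opensRange_sigmaι (fun i => (V i).left) _ _ (e.symm.injective.ne hkl)
        |> fun h => (TopologicalSpace.Opens.coe_disjoint).mpr h) hx hy
  have hc : (⋃ k, (W k : Set U.left)) = Set.univ := by
    rw [Set.eq_univ_iff_forall]
    intro x
    obtain ⟨i, y, hy⟩ := (sigmaOpenCover fun i => (V i).left).exists_eq (s x)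
    refine Set.mem_iUnion.mpr ⟨e i, ?_⟩
    change s x ∈ Set.range (Sigma.ι (fun i => (V i).left) (e.symm (e i)))
    rw [e.symm_apply_apply]
    exact ⟨y, hy⟩
  refine ⟨n, W, fun k => ⟨?_, (W k).2⟩, hd, hc, fun k => ?_⟩
  · have : (W k : Set U.left)ᶜ = ⋃ l : {l // l ≠ k}, (W l.1 : Set U.left) := by
      ext x
      constructor
      · intro hx
        obtain ⟨l, hl⟩ := Set.mem_iUnion.mp (hc.ge (Set.mem_univ x))
        exact Set.mem_iUnion.mpr ⟨⟨l, fun e => hx (e ▸ hl)⟩, hl⟩
      · intro hx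
        obtain ⟨l, hl⟩ := Set.mem_iUnion.mp hx
        exact fun hk => Set.disjoint_left.mp (hd l.2) hl hk
    rw [← isOpen_compl_iff, this]
    exact isOpen_iUnion fun l => (W l.1).2
  · let i := e.symm k
    let t : (W k).toScheme ⟶ (V i).left :=
      IsOpenImmersion.lift (Sigma.ι (fun i => (V i).left) i) ((W k).ι ≫ s) (by
        rintro _ ⟨z, rfl⟩
        exact z.2)
    have ht : t ≫ (g i).left = (W k).ι := by
      calc t ≫ (g i).left = t ≫ Sigma.ι (fun i => (V i).left) i ≫ σ := by rw [Sigma.ι_desc]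
        _ = (W k).ι ≫ s ≫ σ := by rw [IsOpenImmersion.lift_fac_assoc, Category.assoc]
        _ = (W k).ι := by rw [hs, Category.comp_id]
    let tt : mkOpen U (W k) ⟶ V i := MorphismProperty.Over.homMk t (by
      change t ≫ (V i).hom = (W k).ι ≫ U.hom
      rw [← MorphismProperty.Over.w (g i), ← Category.assoc, ht]) trivial
    have : tt ≫ g i = mkOpenHom U (W k) := MorphismProperty.Over.Hom.ext ht
    rw [← this]
    exact R.downward_closed (hg i) tt

theorem subsingleton_of_isEmpty (F : Sheaf (Scheme.ProEt.topology X) (Type v)) (Z : X.ProEt)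
    [IsEmpty Z.left] : Subsingleton (F.obj.obj (op Z)) :=
  ⟨fun a b => (((isSheaf_iff_isSheaf_of_type _ _).mp F.property).isSeparated _
    (Scheme.ProEt.bot_mem_topology Z)).ext fun _ _ h => False.elim h⟩

theorem isWC_of_refine {U : X.ProEt}
    (h : ∀ R ∈ Scheme.ProEt.topology X U, ∃ (J : Type u) (W : J → U.left.Opens),
      Pairwise (fun k l => Disjoint (W k : Set U.left) (W l)) ∧
      (⋃ k, (W k : Set U.left)) = Set.univ ∧ ∀ k, R (mkOpenHom U (W k))) :
    ProEtS.IsWC U := by
  intro F G φ hφ s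
  have hls : Sheaf.IsLocallySurjective φ := (Sheaf.isLocallySurjective_iff_epi φ).mpr hφ
  obtain ⟨J, W, hd, hc, hW⟩ := h _ (Presheaf.imageSieve_mem (Scheme.ProEt.topology X) φ.hom s)
  choose x hx using hW
  have hF := ((isSheaf_iff_isSheaf_of_type _ _).mp F.property)
  have hG := ((isSheaf_iff_isSheaf_of_type _ _).mp G.property)
  have hmem := ofArrows_mkOpenHom_mem W hc
  have hcompat : Presieve.Arrows.Compatible F.obj (fun j => mkOpenHom U (W j)) x := by
    intro i j Z gi gj hij
    by_cases e : i = j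
    · subst e
      have : gi = gj := MorphismProperty.Over.Hom.ext
        ((cancel_mono (W i).ι).mp (congrArg (fun f : Z ⟶ U => f.left) hij))
      rw [this]
    · haveI : IsEmpty Z.left := ⟨fun z => by
        have h1 : ((gi.left z).1 : U.left) = (gj.left z).1 := by
          have := congrArg (fun f : Z ⟶ U => f.left z) hij
          exact this
        exact Set.disjoint_left.mp (hd e) (gi.left z).2 (h1 ▸ (gj.left z).2)⟩
      exact (subsingleton_of_isEmpty F Z).elim _ _
  obtain ⟨t, ht, -⟩ := ((Presieve.isSheafFor_arrows_iff _ _).mp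
    ((Presieve.isSheafFor_iff_generate _).mpr (hF _ hmem))) x hcompat
  refine ⟨t, (hG _ hmem).isSeparatedFor.ext fun Z f hf => ?_⟩
  obtain ⟨_, a, _, ⟨j⟩, rfl⟩ := hf
  have e1 : φ.hom.app (op (mkOpen U (W j))) (x j) = G.obj.map (mkOpenHom U (W j)).op s := hx j
  simp only [op_comp, Functor.map_comp_apply]
  congr 1
  rw [← e1, ← ht j]
  exact (NatTrans.naturality_apply φ.hom _ t).symm

set_option backward.isDefEq.respectTransparency.types false in
theorem exists_section_of_isWC {U V : X.ProEt} (hU : ProEtS.IsWC U) (g : V ⟶ U)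
    (hg : Sieve.generate (Presieve.singleton g) ∈ Scheme.ProEt.topology X U) :
    ∃ s : U ⟶ V, s ≫ g = 𝟙 U := by
  let φ := (Scheme.ProEt.topology X).uliftYoneda.{u + 1}.map g
  have : Sheaf.IsLocallySurjective φ := by
    refine ⟨fun {Z} b => ?_⟩
    refine GrothendieckTopology.superset_covering _ ?_
      ((Scheme.ProEt.topology X).pullback_stable b.down hg)
    rintro Y f ⟨W, a, _, ⟨_⟩, h⟩
    exact ⟨⟨a⟩, ULift.ext _ _ h⟩
  obtain ⟨⟨s⟩, hs⟩ := hU _ _ φ ((Sheaf.isLocallySurjective_iff_epi φ).mp this) (ULift.up (𝟙 U))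
  exact ⟨s, congrArg ULift.down hs⟩

set_option backward.isDefEq.respectTransparency.types false in
theorem isWContractible_of_section {U : X.ProEt} [IsAffine U.left]
    (h : ∀ (V : X.ProEt) (g : V ⟶ U), IsAffine V.left → Surjective g.left →
      ∃ s : U ⟶ V, s ≫ g = 𝟙 U) :
    EtPBC.IsWContractible ↥(Γ(U.left, ⊤)) := by
  intro B _ instB hff hB
  let φ : Γ(U.left, ⊤) ⟶ CommRingCat.of B := CommRingCat.ofHom (algebraMap _ B)
  haveI : WeaklyEtale (Spec.map φ) := (Groth.L20.weaklyEtale_specMap_iff φ).mpr (by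
    have e : φ.hom.toAlgebra = instB := Algebra.algebra_ext _ _ fun r => rfl
    rw [e]
    exact hB)
  haveI : Surjective (Spec.map φ) := ⟨fun x => PrimeSpectrum.comap_surjective_of_faithfullyFlat (A := Γ(U.left, ⊤)) (B := B) x⟩
  let f : Spec (CommRingCat.of B) ⟶ U.left := Spec.map φ ≫ U.left.isoSpec.inv
  obtain ⟨s, hs⟩ := h (mkOver f) (mkOverMap f) (inferInstanceAs (IsAffine (Spec (CommRingCat.of B))))
    (inferInstanceAs (Surjective f))
  let s' : Spec Γ(U.left, ⊤) ⟶ Spec (CommRingCat.of B) := U.left.isoSpec.inv ≫ s.left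
  have hs' : s.left ≫ f = 𝟙 U.left := congrArg (fun f : U ⟶ U => f.left) hs
  have e : φ ≫ Spec.preimage s' = 𝟙 _ := Spec.map_injective (by
    rw [Spec.map_comp, Spec.map_preimage, Spec.map_id, ← cancel_mono U.left.isoSpec.inv,
      Category.id_comp]
    exact (Category.assoc _ _ _).trans ((Category.assoc _ _ _).trans
      ((congrArg (U.left.isoSpec.inv ≫ ·) hs').trans (Category.comp_id _))))
  exact ⟨{ (Spec.preimage s').hom with
    commutes' := fun r => ConcreteCategory.congr_hom e r }⟩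

theorem isWC_of_isWContractible {U : X.ProEt} [IsAffine U.left]
    (h : EtPBC.IsWContractible ↥(Γ(U.left, ⊤))) : ProEtS.IsWC U :=
  isWC_of_refine fun _ hR => by
    obtain ⟨n, W, -, hd, hc, hW⟩ := exists_refinement h hR
    refine ⟨ULift.{u} (Fin n), fun k => W k.down, fun k l hkl => hd fun e => hkl (ULift.ext _ _ e),
      ?_, fun k => hW k.down⟩
    rw [← hc]
    exact (Equiv.ulift.surjective).iUnion_comp fun k => (W k : Set U.left)

theorem isWContractible_of_isWC {U : X.ProEt} [IsAffine U.left] (h : ProEtS.IsWC U) :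
    EtPBC.IsWContractible ↥(Γ(U.left, ⊤)) :=
  isWContractible_of_section fun V g hV hg => by
    refine exists_section_of_isWC h g ?_
    rw [← Presieve.ofArrows_pUnit.{u}]
    exact generate_ofArrows_mem_of_quasiCompact (fun _ : PUnit.{u + 1} => V) (fun _ => g)
      fun x => ⟨PUnit.unit, g.left.surjective x⟩

theorem isWContractible_of_refinement {U : X.ProEt} [IsAffine U.left]
    (h : ∀ R ∈ Scheme.ProEt.topology X U, ∃ (n : ℕ) (W : Fin n → U.left.Opens),
      (∀ k, IsClopen (W k : Set U.left)) ∧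
      Pairwise (fun k l => Disjoint (W k : Set U.left) (W l)) ∧
      (⋃ k, (W k : Set U.left)) = Set.univ ∧ ∀ k, R (mkOpenHom U (W k))) :
    EtPBC.IsWContractible ↥(Γ(U.left, ⊤)) :=
  isWContractible_of_isWC <| isWC_of_refine fun R hR => by
    obtain ⟨n, W, -, hd, hc, hW⟩ := h R hR
    refine ⟨ULift.{u} (Fin n), fun k => W k.down, fun k l hkl => hd fun e => hkl (ULift.ext _ _ e),
      ?_, fun k => hW k.down⟩
    rw [← hc]
    exact (Equiv.ulift.surjective).iUnion_comp fun k => (W k : Set U.left)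

end Groth.L27.ProEt
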